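import Cfsg.Agent.Lib.SporPres.FiTwentyTwo.Pres
import Cfsg.Agent.Lib.SporPres.FiTwentyTwo.S6
import Cfsg.Agent.Lib.SporPres.FiTwentyTwo.S4
import Cfsg.Agent.Lib.SporPres.FiTwentyTwo.S5
import Cfsg.Agent.Lib.SporPres.FiTwentyTwo.S16
import Cfsg.Agent.Lib.SporPres.FiTwentyTwo.S27
import Cfsg.Agent.Lib.SporPres.FiTwentyTwo.S243
import Cfsg.Agent.Lib.SporPres.FiTwentyTwo.S364
import Cfsg.Agent.Lib.SporPres.FiTwentyTwo.S14080

/-! # Upper bounds for the order of the presented Fi22 and a chain of its subgroups -/

set_option autoImplicit false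

namespace Cfsg.Agent.Lib.SporPres.FiTwentyTwo

open Cfsg.Agent.Lib.Coset

theorem model {C : Cert} {L L' : List ℕ}
    (hr : (C.rels.all fun r => isRot pres.base (r.map fun k => L.getD k 0)) = true)
    (hs : (C.subs.all fun w => w.all fun a => L'.contains (L.getD a 0)) = true) :
    Cert.Model C (pickGen φ L) (letSub φ L') :=
  model_letters pres.φ_inv pres.base_eq_one hr hs

/-- The letters of the subgroup of index 14080. -/
abbrev lettersEight : List ℕ := [1, 2, 3, 4, 5, 6, 7, 8]

theorem eight : (letSub φ lettersEight : Set Cfsg.Spor.Fi22).Finite ∧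
    Nat.card (letSub φ lettersEight) ≤ 4585351680 := by
  have h6 := letters_step (L := [2, 3]) rfl (card_letSub_nil φ)
    (S6.covers (model (by decide +kernel) (by decide +kernel)))
  have h4 := letters_step (L := [2, 3, 4]) rfl h6
    (S4.covers (model (by decide +kernel) (by decide +kernel)))
  have h5 := letters_step (L := [2, 3, 4, 5]) rfl h4
    (S5.covers (model (by decide +kernel) (by decide +kernel)))
  have h16 := letters_step (L := [2, 3, 4, 5, 7]) rfl h5
    (S16.covers (model (by decide +kernel) (by decide +kernel)))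
  have h27 := letters_step (L := [2, 3, 4, 5, 7, 8]) rfl h16
    (S27.covers (model (by decide +kernel) (by decide +kernel)))
  have h243 := letters_step (L := [1, 2, 3, 4, 5, 7, 8]) rfl h27
    (S243.covers (model (by decide +kernel) (by decide +kernel)))
  exact letters_step (L := lettersEight) rfl h243
    (S364.covers (model (by decide +kernel) (by decide +kernel)))

theorem gen : Subgroup.closure (φ '' Set.Iio 9) = ⊤ := pres.gen

theorem cover_eight : ∀ x ∈ Subgroup.closure (φ '' Set.Iio 9),
    ∃ i < 14080, x * (S14080.cert.pt φ (nodeOf S14080.ord i))⁻¹ ∈ letSub φ lettersEight :=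
  S14080.covers (model_of pres.φ_inv pres.base_eq_one (by decide +kernel) (fun s hs => by
    have h : (S14080.cert.subs.all fun w => w.all fun a => lettersEight.contains a) = true := by
      decide +kernel
    exact ev_mem_letSub (List.all_eq_true.1 h s hs)))

theorem group_le : Finite Cfsg.Spor.Fi22 ∧
    Nat.card Cfsg.Spor.Fi22 ≤ 14080 * Nat.card (letSub φ lettersEight) := by
  have h := card_le_of_cover eight.1 cover_eight
  rw [gen, Subgroup.card_top] at h
  refine ⟨?_, h.2⟩
  have h1 := h.1
  rw [Subgroup.coe_top] at h1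
  exact Set.finite_univ_iff.1 h1

end Cfsg.Agent.Lib.SporPres.FiTwentyTwo
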