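import Cfsg.Prelude.Def_Sporadic
import Cfsg.Agent.Lib.SporPres.FiTwentyTwo.Upper
import Cfsg.Agent.Lib.SporPres.FiTwentyTwo.S3510
import Cfsg.Agent.Lib.SporPres.FiTwentyTwo.Orbits

/-! # Cosets, order and simplicity of the presented Fi22 -/

set_option autoImplicit false

namespace Cfsg.Agent.Lib.SporPres.FiTwentyTwo

open Cfsg.Agent.Lib.Coset

/-- The words of the subgroup of index 3510. -/
def subWords : List (List ℕ) :=
  [[0], [2], [3], [4], [5], [6], [7], [8], Coset.rep 5 [0, 1, 2, 3, 4, 7]]

/-- The subgroup of index 3510. -/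
abbrev subK : Subgroup Cfsg.Spor.Fi22 := wordSub φ subWords

theorem model3510 : Cert.Model S3510.cert φ subK :=
  model_of pres.φ_inv pres.base_eq_one (by decide +kernel) (fun s hs => by
    have h : (S3510.cert.subs.all fun w => subWords.contains w) = true := by decide +kernel
    have := List.all_eq_true.1 h s hs
    exact Subgroup.subset_closure ⟨s, List.contains_iff_mem.1 this, rfl⟩)

/-- The table. -/
abbrev tab : Tab := S3510.tab

theorem size_eq : tab.size = 3510 := rfl

theorem good : tab.Good :=
  Tab.good_of_invOK (B := 1200) (fun k hk => by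
    have hk' : k < 3 := by have := size_eq; omega
    interval_cases k <;> decide +kernel) (by norm_num)

theorem relators : ∀ i < tab.size, ∀ w ∈ pres.base, tab.app w i = i :=
  Tab.relOK_spec (B := 130) (by norm_num) fun k hk => by
    have hk' : k < 27 := by have := size_eq; omega
    interval_cases k <;> decide +kernel

theorem base_lt : ∀ w ∈ pres.base, ∀ k ∈ w, k < tab.gens := by decide +kernel

/-- The action on the cosets. -/
noncomputable def act : Cfsg.Spor.Fi22 →* Equiv.Perm (Fin tab.size) :=
  pres.toPerm tab good relators base_lt idx idx_lt gl_idx idx_gl words_lt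

theorem act_φ : ∀ g < tab.gens, act (φ g) = tab.perm good g :=
  pres.toPerm_φ tab good relators base_lt idx idx_lt gl_idx idx_gl words_lt rfl

theorem pos : 0 < tab.size := by decide +kernel

/-- The representation on the cosets. -/
noncomputable def rep : Rep Cfsg.Spor.Fi22 tab :=
  mkRep tab S3510.cert S3510.ord φ subK act good act_φ pos gen (by decide +kernel)
    (fun e he => S3510.edges_hold model3510 e he) (S3510.covers model3510) (by decide +kernel)
    (fix_of act_φ pos (by decide +kernel) (by decide +kernel) le_rfl)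

theorem index_subK : subK.index = 3510 := rep.index_eq

theorem chain_ok : tab.chainOK chain = true := by decide +kernel

theorem chain_letters : (chain.all fun l => lettersBelow tab.gens l.2.1) = true := by decide +kernel

theorem range_ge : 64561751654400 ≤ Nat.card act.range := by
  have h : Tab.chainCard chain = 64561751654400 := by decide +kernel
  rw [← h]
  refine tab.chain_spec good chain_ok fun l hl w hw => ⟨ev φ w, ?_⟩
  have hlt := List.all_eq_true.1 chain_letters l hl
  simp only [lettersBelow, List.all_eq_true, decide_eq_true_eq] at hlt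
  rw [ev_comp, ev, ev, List.map_congr_left (f := ⇑act ∘ φ) (g := tab.perm good) fun a ha =>
    act_φ a (hlt w hw a ha)]

theorem card_and_inj : Nat.card Cfsg.Spor.Fi22 = 64561751654400 ∧ Function.Injective act :=
  rep.order group_le.1 (group_le.2.trans ((Nat.mul_le_mul le_rfl eight.2).trans (by norm_num)))
    range_ge

theorem card_eight : Nat.card (letSub φ lettersEight) = 4585351680 := by
  refine le_antisymm eight.2 (Nat.le_of_mul_le_mul_left ?_ (by norm_num : 0 < 14080))
  calc 14080 * 4585351680 = 64561751654400 := by norm_num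
    _ = Nat.card Cfsg.Spor.Fi22 := card_and_inj.1.symm
    _ ≤ _ := group_le.2

theorem index_eight : (letSub φ lettersEight).index = 14080 := by
  have h := Subgroup.index_mul_card (letSub φ lettersEight)
  rw [card_and_inj.1, card_eight] at h
  exact Nat.eq_of_mul_eq_mul_right (by norm_num : 0 < 4585351680)
    (h.trans (by norm_num : 64561751654400 = 14080 * 4585351680))

theorem card_subK : Nat.card subK = 18393661440 := by
  have h := Subgroup.index_mul_card subK
  rw [index_subK, card_and_inj.1] at h
  exact Nat.eq_of_mul_eq_mul_left (by norm_num : 0 < 3510)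
    (h.trans (by norm_num : 64561751654400 = 3510 * 18393661440))

theorem orbit_ok : (orbs.all fun o => tab.orbitOK subWords o.1 o.2 && tab.closedOK subWords o.1 o.2) =
    true := by decide +kernel

theorem orbits (o : ℕ × List Tab.Step) (ho : o ∈ orbs) (hb : o.1 < tab.size) :
    (MulAction.orbit (subK.map act) (⟨o.1, hb⟩ : Fin tab.size)).ncard = o.2.length + 1 ∧
      ∀ x : Fin tab.size, x ∈ MulAction.orbit (subK.map act) (⟨o.1, hb⟩ : Fin tab.size) ↔
        (x : ℕ) ∈ Tab.pts o.1 o.2 := by
  have h := List.all_eq_true.1 orbit_ok o ho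
  rw [Bool.and_eq_true] at h
  exact Tab.orbit_eq good h.1 h.2
    (by rw [map_wordSub act φ (tab.perm good) act_φ (by decide +kernel)]) hb

theorem exists_suborbits : ∃ q₁ q₂ : Cfsg.Spor.Fi22 ⧸ subK,
    (MulAction.orbit subK q₁).ncard = 693 ∧ (MulAction.orbit subK q₂).ncard = 2816 := by
  have h : orb0.2.length + 1 = 2816 ∧ orb1.2.length + 1 = 693 ∧
      orb0.1 < tab.size ∧ orb1.1 < tab.size := by decide +kernel
  obtain ⟨q0, h0⟩ := rep.exists_orbit h.2.2.1
  obtain ⟨q1, h1⟩ := rep.exists_orbit h.2.2.2
  refine ⟨q1, q0, ?_, ?_⟩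
  · refine (rep.ncard_orbit q1).trans ?_
    rw [h1]; exact ((orbits orb1 (by simp [orbs]) h.2.2.2).1).trans h.2.1
  · refine (rep.ncard_orbit q0).trans ?_
    rw [h0]; exact ((orbits orb0 (by simp [orbs]) h.2.2.1).1).trans h.1

theorem witness_fix : ∀ i < tab.size,
    ∀ w ∈ [Coset.rep 13 xWord, gWord.reverse ++ (zWord ++ (gWord ++ [1]))], tab.app w i = i :=
  Tab.relOK_spec (B := 400) (by norm_num) fun k hk => by
    have hk' : k < 9 := by have := size_eq; omega
    interval_cases k <;> decide +kernel

theorem isFiTwentyTwo : Cfsg.IsFi22 Cfsg.Spor.Fi22 := by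
  have hinj := card_and_inj.2
  have hfin := group_le.1
  refine ⟨?_, card_and_inj.1⟩
  have hnt : Nontrivial Cfsg.Spor.Fi22 := by
    rw [← Finite.one_lt_card_iff_nontrivial, card_and_inj.1]
    norm_num
  refine ⟨fun N hN => or_iff_not_imp_left.2 fun hne => ?_⟩
  have hsup := rep.sup_eq_top hinj (orbs := orbs) (by decide +kernel) orbits N hne
  have hx13 : ev φ xWord ^ 13 = 1 := by
    rw [← ev_rep]
    exact ev_eq_one_of_fix act_φ hinj (by decide +kernel) fun i hi => witness_fix i hi _ (by simp)
  have hx : ev φ xWord ∈ N := rep.mem_of_coprime hsup hx13 (by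
    show Nat.Coprime 13 (Nat.card subK)
    rw [card_subK]; norm_num)
  have hb : φ 1 ∈ N := gen_mem pres.φ_inv (z := zWord) (g := gWord)
    (witWord_mem pres.φ_inv hx)
    (ev_eq_one_of_fix act_φ hinj (by decide +kernel) fun i hi => witness_fix i hi _ (by simp))
  have nxt : ∀ i j, List.elem (Coset.rep 3 [i, j]) pres.base = true → φ i ∈ N → φ j ∈ N :=
    fun i j h hi => by
      refine mem_of_odd (pres.φ_inv j) (by decide : Odd 3) ?_ hi
      have := pres.base_eq_one _ (List.elem_iff.1 h)
      rwa [ev_rep, ev_cons, ev_cons, ev_nil, mul_one] at this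
  have ha := nxt 1 0 (by decide +kernel) hb
  have hc := nxt 1 2 (by decide +kernel) hb
  have hd := nxt 2 3 (by decide +kernel) hc
  have he := nxt 3 4 (by decide +kernel) hd
  have hh := nxt 3 7 (by decide +kernel) hd
  have hf := nxt 4 5 (by decide +kernel) he
  have hg := nxt 5 6 (by decide +kernel) hf
  have hi := nxt 7 8 (by decide +kernel) hh
  rw [eq_top_iff, ← gen]
  refine (Subgroup.closure_le _).2 ?_
  rintro _ ⟨k, hk, rfl⟩
  rw [Set.mem_Iio] at hk
  interval_cases k <;> assumption

end Cfsg.Agent.Lib.SporPres.FiTwentyTwo
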