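import Cfsg.Agent.Lib.SporPres.FiTwentyTwo.Unit

/-! # The class of 3510 transpositions of the presented Fi22 -/

set_option autoImplicit false

namespace Cfsg.Agent.Lib.SporPres.FiTwentyTwo.Unit

open Cfsg.Agent.Lib.Coset

/-- The transposition whose centraliser is the subgroup of index 3510. -/
noncomputable abbrev dvec : Cfsg.Spor.Fi22 := ev φ [0]

theorem dvec_inv : dvec * dvec = 1 := by
  simp only [dvec, ev_cons, ev_nil, mul_one]
  exact pres.φ_inv 0

/-- Words leading from the first point to the bases of the two suborbits, with the order of the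
product of the transposition and its conjugate. -/
def bases : List (List ℕ × ℕ) := [([1], 3), ([1, 2, 0, 1], 2)]

theorem bases_fix : ∀ i < tab.size,
    ∀ w ∈ bases.map (fun b => Coset.rep b.2 ([0] ++ b.1 ++ [0] ++ b.1.reverse)),
      tab.app w i = i :=
  Tab.relOK_spec (B := 700) (by norm_num) fun k hk => by
    have hk' : k < 6 := by have := size_eq; omega
    interval_cases k <;> decide +kernel

theorem bases_spec : ∀ b ∈ bases, (b.1.all (· < tab.gens) = true) ∧
    (tab.app b.1 0 = orb0.1 ∨ tab.app b.1 0 = orb1.1) ∧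
    ∃ i : Fin 3510, tab.app ([0] ++ b.1) i ≠ tab.app (b.1 ++ [0]) i := by
  intro b hb
  simp only [bases, List.mem_cons, List.not_mem_nil, or_false] at hb
  rcases hb with rfl | rfl
  · exact ⟨by decide +kernel, by decide +kernel, ⟨0, by decide⟩, by decide +kernel⟩
  · exact ⟨by decide +kernel, by decide +kernel, ⟨1, by decide⟩, by decide +kernel⟩

theorem bases_lt : ∀ b ∈ bases, tab.app b.1 0 < tab.size := by decide +kernel

theorem commute_dvec {x : Cfsg.Spor.Fi22} (hx : x ∈ subK) : x * dvec = dvec * x := by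
  have hz : invol ∈ Subgroup.center subK := center_eq ▸ invol_mem_ker
  exact congrArg Subtype.val (Subgroup.mem_center_iff.1 hz ⟨x, hx⟩)

/-- Every element outside the subgroup factors through one of the bases. -/
theorem factor {x : Cfsg.Spor.Fi22} (hx : x ∉ subK) :
    ∃ b ∈ bases, ∃ k ∈ subK, ∃ k' ∈ subK, x = k * (ev φ b.1 * k') := by
  have hp : act x rep.z ≠ rep.z := fun h => hx ((rep.mem_iff x).2 h)
  have hb : ∀ b (hm : b ∈ bases), act (ev φ b.1) rep.z =
      (⟨tab.app b.1 0, bases_lt b hm⟩ : Fin tab.size) :=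
    fun b hb => Fin.ext (by
      rw [act_ev _ (bases_spec b hb).1]
      exact Tab.ev_perm_apply good _ (by simpa using (bases_spec b hb).1) _)
  have hor : ∃ o ∈ orbs, ∃ hb : o.1 < tab.size,
      act x rep.z ∈ MulAction.orbit (subK.map act) (⟨o.1, hb⟩ : Fin tab.size) := by
    by_contra hcon
    push Not at hcon
    have h0 := orbits orb0 (by simp [orbs]) (by decide +kernel)
    have h1 := orbits orb1 (by simp [orbs]) (by decide +kernel)
    have hlen : orb0.2.length + 1 = 2816 ∧ orb1.2.length + 1 = 693 := by decide +kernel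
    have hn0 := hcon orb0 (by simp [orbs]) (by decide +kernel)
    have hn1 := hcon orb1 (by simp [orbs]) (by decide +kernel)
    have hz : ∀ c : Fin tab.size, c ≠ rep.z →
        rep.z ∉ MulAction.orbit (subK.map act) c := by
      intro c hc ⟨⟨_, k, hk, rfl⟩, he⟩
      exact hc ((act k).injective (he.trans ((rep.mem_iff k).1 hk).symm))
    have hd : (Tab.pts orb0.1 orb0.2).contains orb1.1 = false := by decide +kernel
    have hdisj : Disjoint (MulAction.orbit (subK.map act) (⟨orb0.1, by decide +kernel⟩ : Fin tab.size))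
        (MulAction.orbit (subK.map act) (⟨orb1.1, by decide +kernel⟩ : Fin tab.size)) := by
      refine Set.disjoint_left.2 fun p hp hp' => ?_
      have := (h0.2 ⟨orb1.1, by decide +kernel⟩).1 (by
        rw [← MulAction.orbit_eq_iff.2 hp, MulAction.orbit_eq_iff.2 hp']
        exact MulAction.mem_orbit_self _)
      rw [List.contains_eq_mem, decide_eq_false_iff_not] at hd
      exact hd this
    have hcount := Set.ncard_le_ncard (s := insert (act x rep.z) (insert rep.z
      (MulAction.orbit (subK.map act) (⟨orb0.1, by decide +kernel⟩ : Fin tab.size) ∪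
        MulAction.orbit (subK.map act) (⟨orb1.1, by decide +kernel⟩ : Fin tab.size))))
      (t := Set.univ) (Set.subset_univ _) (Set.toFinite _)
    rw [Set.ncard_univ, Nat.card_fin, Set.ncard_insert_of_notMem ?_ (Set.toFinite _),
      Set.ncard_insert_of_notMem ?_ (Set.toFinite _), Set.ncard_union_eq hdisj, h0.1, h1.1,
      hlen.1, hlen.2, size_eq] at hcount
    · omega
    · exact fun h => h.elim (hz _ (fun e => absurd (congrArg Fin.val e) (by decide +kernel)))
        (hz _ (fun e => absurd (congrArg Fin.val e) (by decide +kernel)))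
    · rintro (h | h | h)
      exacts [hp h, hn0 h, hn1 h]
  obtain ⟨o, ho, hlt, horb⟩ := hor
  obtain ⟨b, hbm, hbo⟩ : ∃ b ∈ bases, tab.app b.1 0 = o.1 := by
    simp only [orbs, List.mem_cons, List.not_mem_nil, or_false] at ho
    rcases ho with rfl | rfl
    · exact ⟨([1], 3), by simp [bases], by decide +kernel⟩
    · exact ⟨([1, 2, 0, 1], 2), by simp [bases], by decide +kernel⟩
  obtain ⟨⟨_, k, hk, rfl⟩, he⟩ := horb
  refine ⟨b, hbm, k, hk, (ev φ b.1)⁻¹ * k⁻¹ * x, (rep.mem_iff _).2 ?_, by group⟩
  show act ((ev φ b.1)⁻¹ * k⁻¹ * x) rep.z = rep.z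
  rw [map_mul, map_mul, map_inv, map_inv, Equiv.Perm.mul_apply, Equiv.Perm.mul_apply,
    Equiv.Perm.inv_eq_iff_eq, Equiv.Perm.inv_eq_iff_eq]
  exact he.symm.trans (congrArg (act k) ((hb b hbm).trans (Fin.ext hbo)).symm)

theorem centralizer_eq : Subgroup.centralizer ({dvec} : Set Cfsg.Spor.Fi22) = subK := by
  refine le_antisymm (fun x hx => ?_) (fun x hx => ?_)
  · by_contra hn
    obtain ⟨b, hb, k, hk, k', hk', rfl⟩ := factor hn
    rw [Subgroup.mem_centralizer_singleton_iff] at hx
    have hc : ev φ b.1 * dvec = dvec * ev φ b.1 := by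
      have e : k * (ev φ b.1 * dvec) * k' = k * (dvec * ev φ b.1) * k' := by
        calc k * (ev φ b.1 * dvec) * k' = k * ev φ b.1 * (dvec * k') := by group
          _ = k * ev φ b.1 * (k' * dvec) := by rw [commute_dvec hk']
          _ = k * (ev φ b.1 * k') * dvec := by group
          _ = dvec * (k * (ev φ b.1 * k')) := hx
          _ = (dvec * k) * (ev φ b.1 * k') := by group
          _ = (k * dvec) * (ev φ b.1 * k') := by rw [commute_dvec hk]
          _ = k * (dvec * ev φ b.1) * k' := by group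
      exact mul_left_cancel (mul_right_cancel e)
    obtain ⟨hl, -, i, hi⟩ := bases_spec b hb
    refine hi ?_
    have h1 : act (ev φ ([0] ++ b.1)) = act (ev φ (b.1 ++ [0])) := by
      rw [ev_append, ev_append]; exact congrArg act hc.symm
    have hl0 : ([0] ++ b.1).all (· < tab.gens) = true := by
      rw [List.all_append, hl]; decide +kernel
    have hl1 : (b.1 ++ [0]).all (· < tab.gens) = true := by
      rw [List.all_append, hl]; decide +kernel
    rw [act_ev _ hl0, act_ev _ hl1] at h1
    have h2 := congrArg (fun σ : Equiv.Perm (Fin tab.size) => ((σ i : Fin _) : ℕ)) h1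
    exact ((Tab.ev_perm_apply good _
      (fun g hg => decide_eq_true_eq.mp (List.all_eq_true.1 hl0 g hg)) _).symm.trans h2).trans
      (Tab.ev_perm_apply good _
        (fun g hg => decide_eq_true_eq.mp (List.all_eq_true.1 hl1 g hg)) _)
  · exact Subgroup.mem_centralizer_singleton_iff.2 (commute_dvec hx)

theorem conj_pow_small {x : Cfsg.Spor.Fi22} :
    (dvec * (x * dvec * x⁻¹)) ^ 2 = 1 ∨ (dvec * (x * dvec * x⁻¹)) ^ 3 = 1 := by
  by_cases hx : x ∈ subK
  · left
    rw [commute_dvec hx, mul_inv_cancel_right, dvec_inv, one_pow]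
  obtain ⟨b, hb, k, hk, k', hk', rfl⟩ := factor hx
  have h1 : ev φ (Coset.rep b.2 ([0] ++ b.1 ++ [0] ++ b.1.reverse)) = 1 :=
    ev_eq_one_of_fix act_φ card_and_inj.2
      (by
        intro a ha
        have := (by decide +kernel : (bases.all fun b =>
          (Coset.rep b.2 ([0] ++ b.1 ++ [0] ++ b.1.reverse)).all (· < tab.gens)) = true)
        simp only [List.all_eq_true, decide_eq_true_eq] at this
        exact this b hb a ha)
      fun i hi => bases_fix i hi _ (List.mem_map.2 ⟨b, hb, rfl⟩)
  rw [ev_rep, ev_append, ev_append, ev_append, ev_reverse φ b.1 fun a _ => pres.φ_inv a] at h1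
  have e : dvec * (k * (ev φ b.1 * k') * dvec * (k * (ev φ b.1 * k'))⁻¹) =
      k * (dvec * ev φ b.1 * dvec * (ev φ b.1)⁻¹) * k⁻¹ := by
    calc dvec * (k * (ev φ b.1 * k') * dvec * (k * (ev φ b.1 * k'))⁻¹)
        = dvec * k * ev φ b.1 * (k' * dvec) * k'⁻¹ * (ev φ b.1)⁻¹ * k⁻¹ := by group
      _ = k * dvec * ev φ b.1 * (dvec * k') * k'⁻¹ * (ev φ b.1)⁻¹ * k⁻¹ := by
          rw [commute_dvec hk', commute_dvec hk]
      _ = k * (dvec * ev φ b.1 * dvec * (ev φ b.1)⁻¹) * k⁻¹ := by group
  simp only [bases, List.mem_cons, List.not_mem_nil, or_false] at hb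
  rcases hb with rfl | rfl
  · right; rw [e, conj_pow, h1, mul_one, mul_inv_cancel]
  · left; rw [e, conj_pow, h1, mul_one, mul_inv_cancel]

theorem orderOf_dvec : orderOf dvec = 2 := by
  refine orderOf_eq_prime (by rw [pow_two]; exact dvec_inv) fun h => invol_ne_one (Subtype.ext ?_)
  exact h

theorem card_class : Nat.card (conjugatesOf dvec) = 3510 := by
  have : Nat.card (conjugatesOf dvec) = Nat.card (Cfsg.Spor.Fi22 ⧸ subK) := by
    refine (Nat.card_eq_of_bijective (α := Cfsg.Spor.Fi22 ⧸ subK) (β := conjugatesOf dvec)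
      (Quotient.lift (fun x => ⟨x * dvec * x⁻¹, isConj_iff.2 ⟨x, rfl⟩⟩) fun a b h => ?_)
      ⟨?_, ?_⟩).symm
    · have hab : a⁻¹ * b ∈ subK := QuotientGroup.leftRel_apply.1 h
      refine Subtype.ext ?_
      show a * dvec * a⁻¹ = b * dvec * b⁻¹
      calc a * dvec * a⁻¹ = a * (dvec * (a⁻¹ * b)) * b⁻¹ := by group
        _ = a * ((a⁻¹ * b) * dvec) * b⁻¹ := by rw [commute_dvec hab]
        _ = b * dvec * b⁻¹ := by group
    · intro a b
      induction a using Quotient.inductionOn with
      | _ a =>
        induction b using Quotient.inductionOn with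
        | _ b =>
          intro h
          have h' : a * dvec * a⁻¹ = b * dvec * b⁻¹ := congrArg Subtype.val h
          refine Quotient.sound (QuotientGroup.leftRel_apply.2 ?_)
          rw [← centralizer_eq, Subgroup.mem_centralizer_singleton_iff]
          calc a⁻¹ * b * dvec = a⁻¹ * (b * dvec * b⁻¹) * b := by group
            _ = a⁻¹ * (a * dvec * a⁻¹) * b := by rw [h']
            _ = dvec * (a⁻¹ * b) := by group
    · rintro ⟨e, he⟩
      obtain ⟨x, rfl⟩ := isConj_iff.1 he
      exact ⟨Quotient.mk _ x, rfl⟩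
  rw [this]
  exact index_subK

theorem double_cover_congr {H H' K : Type*} [Group H] [Group H'] [Group K] [Finite H] (e : H ≃* H')
    (h : Cfsg.IsNonsplitDoubleCover H K) : Cfsg.IsNonsplitDoubleCover H' K := by
  obtain ⟨hc, ⟨q⟩, hn⟩ := h
  have hmap : (Subgroup.center H).map e.toMonoidHom = Subgroup.center H' := by
    ext y
    simp only [Subgroup.mem_map, Subgroup.mem_center_iff]
    constructor
    · rintro ⟨x, hx, rfl⟩ g
      obtain ⟨g, rfl⟩ := e.surjective g
      show e g * e x = e x * e g
      rw [← map_mul, hx, map_mul]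
    · intro hy
      refine ⟨e.symm y, fun g => e.injective ?_, e.apply_symm_apply y⟩
      rw [map_mul, map_mul, e.apply_symm_apply]
      exact hy _
  refine ⟨?_, ⟨(QuotientGroup.congr _ _ e hmap).symm.trans q⟩, fun L hL => hn (L.comap e.toMonoidHom) ?_⟩
  · rw [← hmap, Subgroup.card_map_of_injective e.injective]
    exact hc
  · refine Subgroup.isComplement'_of_card_mul_and_disjoint ?_ ?_
    · have hcc : Nat.card (Subgroup.center H') = Nat.card (Subgroup.center H) := by
        rw [← hmap]
        exact Subgroup.card_map_of_injective (f := e.toMonoidHom) e.injective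
      rw [← hcc, Subgroup.comap_equiv_eq_map_symm', Subgroup.card_map_of_injective e.symm.injective,
        hL.card_mul]
      exact (Nat.card_congr e.toEquiv).symm
    · rw [disjoint_iff]
      refine (Subgroup.eq_bot_iff_forall _).2 fun x hx => e.injective ?_
      rw [map_one]
      have hxC : e x ∈ Subgroup.center H' := hmap ▸ ⟨x, (Subgroup.mem_inf.1 hx).1, rfl⟩
      exact Subgroup.mem_bot.1 (hL.isCompl.inf_eq_bot ▸
        Subgroup.mem_inf.2 ⟨hxC, (Subgroup.mem_inf.1 hx).2⟩)

theorem realization : ∃ (G : Type) (_ : Group G) (_ : Finite G), Cfsg.IsFi22 G ∧ ∃ D : Set G,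
    Cfsg.IsThreeTranspositionClass D ∧ Nat.card D = 3510 ∧ ∀ d ∈ D,
      ∃ (F : Type) (_ : Field F) (_ : Fintype F), Fintype.card F = 4 ∧
        Cfsg.IsNonsplitDoubleCover (Subgroup.centralizer ({d} : Set G)) (Cfsg.PSU 6 F 2) := by
  refine ⟨Cfsg.Spor.Fi22, inferInstance, group_le.1, isFiTwentyTwo, conjugatesOf dvec,
    ⟨⟨?_, ?_⟩, ⟨dvec, mem_conjugatesOf_self, rfl⟩, ?_⟩, card_class, ?_⟩
  · intro d hd
    obtain ⟨g, rfl⟩ := isConj_iff.1 hd
    exact (orderOf_injective (MulAut.conj g).toMonoidHom (MulAut.conj g).injective dvec).trans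
      orderOf_dvec
  · intro d hd e he
    obtain ⟨g, rfl⟩ := isConj_iff.1 hd
    obtain ⟨h, rfl⟩ := isConj_iff.1 he
    have key : g * dvec * g⁻¹ * (h * dvec * h⁻¹) =
        g * (dvec * ((g⁻¹ * h) * dvec * (g⁻¹ * h)⁻¹)) * g⁻¹ := by group
    rw [key, conj_pow, conj_pow]
    rcases conj_pow_small (x := g⁻¹ * h) with h' | h'
    · left; rw [h', mul_one, mul_inv_cancel]
    · right; rw [h', mul_one, mul_inv_cancel]
  · have : IsSimpleGroup Cfsg.Spor.Fi22 := isFiTwentyTwo.1
    have : (Subgroup.closure (conjugatesOf dvec)).Normal := by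
      refine ⟨fun x hx g => ?_⟩
      induction hx using Subgroup.closure_induction with
      | mem x hx =>
        exact Subgroup.subset_closure (hx.trans (isConj_iff.2 ⟨g, rfl⟩))
      | one => simp
      | mul x y _ _ h1 h2 =>
        rw [show g * (x * y) * g⁻¹ = (g * x * g⁻¹) * (g * y * g⁻¹) by group]
        exact mul_mem h1 h2
      | inv x _ h1 =>
        rw [show g * x⁻¹ * g⁻¹ = (g * x * g⁻¹)⁻¹ by group]
        exact inv_mem h1
    refine this.eq_bot_or_eq_top.resolve_left fun h => ?_
    have h1 : dvec ∈ Subgroup.closure (conjugatesOf dvec) :=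
      Subgroup.subset_closure mem_conjugatesOf_self
    rw [h, Subgroup.mem_bot] at h1
    exact invol_ne_one (Subtype.ext h1)
  · intro d hd
    obtain ⟨g, rfl⟩ := isConj_iff.1 hd
    have := group_le.1
    refine ⟨He.Four, inferInstance, inferInstance, He.Four.card_four, double_cover_congr ?_ isDoubleCover⟩
    refine (subK.equivMapOfInjective (MulAut.conj g).toMonoidHom (MulAut.conj g).injective).trans
      (MulEquiv.subgroupCongr ?_)
    rw [← centralizer_eq]
    ext y
    simp only [Subgroup.mem_map, Subgroup.mem_centralizer_singleton_iff]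
    constructor
    · rintro ⟨x, hx, rfl⟩
      show g * x * g⁻¹ * (g * dvec * g⁻¹) = g * dvec * g⁻¹ * (g * x * g⁻¹)
      rw [show g * x * g⁻¹ * (g * dvec * g⁻¹) = g * (x * dvec) * g⁻¹ by group, hx]
      group
    · intro hy
      refine ⟨g⁻¹ * y * g, ?_, by show g * (g⁻¹ * y * g) * g⁻¹ = y; group⟩
      calc g⁻¹ * y * g * dvec = g⁻¹ * (y * (g * dvec * g⁻¹)) * g := by group
        _ = g⁻¹ * ((g * dvec * g⁻¹) * y) * g := by rw [hy]
        _ = dvec * (g⁻¹ * y * g) := by group

end Cfsg.Agent.Lib.SporPres.FiTwentyTwo.Unit
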