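import Cfsg.Agent.Lib.SporPres.FiTwentyTwo.Order

/-! # The subgroups of the presented group named by their generators -/

set_option autoImplicit false

namespace Cfsg.Agent.Lib.SporPres.FiTwentyTwo

open Cfsg.Agent.Lib.Coset Cfsg.Spor.Fi22

theorem subK_eq : ((Subgroup.closure
    ({a, c, d, e, f, g, h, i, (a * b * c * d * e * h) ^ 5} : Set (FreeGroup Gen))).map
    (PresentedGroup.mk (Cfsg.Spor.coxRelators edges ∪ {r | r ∈ extra}))) = subK := by
  rw [MonoidHom.map_closure]
  refine congrArg Subgroup.closure ?_
  simp only [subWords, List.mem_cons, List.not_mem_nil, or_false, Set.setOf_or, Set.image_union,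
    Set.setOf_eq_eq_singleton, Set.image_singleton, Set.image_insert_eq]
  simp only [ev_rep, ev_cons, ev_nil, mul_one, map_pow, map_mul, Set.singleton_union]
  simp only [mul_assoc]
  rfl

theorem eight_eq : ((Subgroup.closure ({b, c, d, e, f, g, h, i} : Set (FreeGroup Gen))).map
    (PresentedGroup.mk (Cfsg.Spor.coxRelators edges ∪ {r | r ∈ extra}))) =
      letSub φ lettersEight := by
  rw [MonoidHom.map_closure]
  refine congrArg Subgroup.closure ?_
  simp only [lettersEight, List.mem_cons, List.not_mem_nil, or_false, Set.setOf_or, Set.image_union,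
    Set.setOf_eq_eq_singleton, Set.image_singleton, Set.image_insert_eq, Set.singleton_union]
  rfl

end Cfsg.Agent.Lib.SporPres.FiTwentyTwo
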