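import Cfsg.Prelude.Def_SporadicB
import Cfsg.Agent.Lib.SporPres.FiTwentyTwo.OrthSpace
import Cfsg.Agent.Lib.SporPres.FiTwentyTwo.Order

/-! # The subgroup of index 14080 is POmega(7, 3) -/

set_option autoImplicit false

namespace Cfsg.Agent.Lib.SporPres.FiTwentyTwo.Orth

open Cfsg.Agent.Lib.Coset

theorem pts_spec : ∀ i : Fin 351, nodeOf ptsS i < 3510 ∧ nodeOf posS (nodeOf ptsS i) = i := by
  decide +kernel

/-- The table point of a point of the space. -/
noncomputable def pt (i : Fin 351) : Fin tab.size := ⟨nodeOf ptsS i, (pts_spec i).1⟩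

theorem pt_inj : Function.Injective pt := fun i j h => Fin.ext (by
  rw [← (pts_spec i).2, ← (pts_spec j).2]
  exact congrArg (fun q : Fin tab.size => nodeOf posS q) h)

/-- A permutation of the cosets induces one of the points of the space. -/
def Compat (g : Equiv.Perm (Fin tab.size)) (σ : Equiv.Perm (Fin 351)) : Prop :=
  ∀ i, g (pt i) = pt (σ i)

theorem compat_mul {g h : Equiv.Perm (Fin tab.size)} {σ τ : Equiv.Perm (Fin 351)}
    (hg : Compat g σ) (hh : Compat h τ) : Compat (g * h) (σ * τ) := fun i => by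
  rw [Equiv.Perm.mul_apply, hh, hg, Equiv.Perm.mul_apply]

theorem compat_unique {g : Equiv.Perm (Fin tab.size)} {σ τ : Equiv.Perm (Fin 351)}
    (hs : Compat g σ) (ht : Compat g τ) : σ = τ :=
  Equiv.ext fun i => pt_inj ((hs i).symm.trans (ht i))

theorem moves : ∀ g : Fin 8, ∀ i : Fin 351,
    tab.act ((g : ℕ) + 1) (nodeOf ptsS i) = nodeOf ptsS (tabO.act g i) := by
  decide +kernel

theorem compat_letter (g : ℕ) (hg : g < 8) :
    Compat (act (φ (g + 1))) (tabO.perm goodO g) := fun i => Fin.ext (by
  have hlt : g + 1 < tab.gens := by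
    have : tab.gens = 9 := rfl
    omega
  rw [act_φ _ hlt, Tab.perm, dif_pos hlt, Tab.perm, dif_pos (show g < tabO.gens from hg)]
  exact moves ⟨g, hg⟩ i)

theorem letters_shift : ∀ k, k ∈ lettersEight ↔ ∃ g < 8, k = g + 1 := fun k => by
  simp only [lettersEight, List.mem_cons, List.not_mem_nil, or_false]
  constructor
  · intro h
    exact ⟨k - 1, by omega, by omega⟩
  · rintro ⟨g, hg, rfl⟩
    omega

theorem exists_compat {x : Cfsg.Spor.Fi22} (hx : x ∈ letSub φ lettersEight) :
    ∃ σ ∈ refGroup, Compat (act x) σ := by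
  have : Finite Cfsg.Spor.Fi22 :=
    Nat.finite_of_card_ne_zero (by rw [card_and_inj.1]; norm_num)
  rw [letSub, ← Subgroup.mem_toSubmonoid, Subgroup.closure_toSubmonoid_of_finite] at hx
  induction hx using Submonoid.closure_induction with
  | mem x hx =>
    obtain ⟨k, hk, rfl⟩ := hx
    obtain ⟨g, hg, rfl⟩ := (letters_shift k).1 hk
    exact ⟨_, Subgroup.subset_closure ⟨g, hg, rfl⟩, compat_letter g hg⟩
  | one => exact ⟨1, one_mem _, fun i => by rw [map_one]; rfl⟩
  | mul x y _ _ hx hy =>
    obtain ⟨σ, hσm, hσ⟩ := hx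
    obtain ⟨τ, hτm, hτ⟩ := hy
    exact ⟨σ * τ, mul_mem hσm hτm, by rw [map_mul]; exact compat_mul hσ hτ⟩

/-- The action of the subgroup on the points of the space. -/
noncomputable def pointHom : letSub φ lettersEight →* Equiv.Perm (Fin 351) :=
  MonoidHom.mk' (fun x => (exists_compat x.2).choose) fun x y =>
    compat_unique (exists_compat (x * y).2).choose_spec.2 (by
      rw [Subgroup.coe_mul, map_mul]
      exact compat_mul (exists_compat x.2).choose_spec.2 (exists_compat y.2).choose_spec.2)

theorem pointHom_eq (x : letSub φ lettersEight) {σ : Equiv.Perm (Fin 351)}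
    (h : Compat (act (x : Cfsg.Spor.Fi22)) σ) : pointHom x = σ :=
  compat_unique (exists_compat x.2).choose_spec.2 h

theorem range_pointHom : pointHom.range = refGroup := by
  refine le_antisymm ?_ ((Subgroup.closure_le _).2 ?_)
  · rintro _ ⟨x, rfl⟩
    exact (exists_compat x.2).choose_spec.1
  · rintro _ ⟨g, hg, rfl⟩
    exact ⟨⟨_, Subgroup.subset_closure ⟨g + 1, (letters_shift _).2 ⟨g, hg, rfl⟩, rfl⟩⟩,
      pointHom_eq _ (compat_letter g hg)⟩

theorem pointHom_injective : Function.Injective pointHom := by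
  have : Finite (letSub φ lettersEight) := Nat.finite_of_card_ne_zero (by rw [card_eight]; norm_num)
  have hb : Function.Bijective pointHom.rangeRestrict :=
    (Nat.bijective_iff_surjective_and_card _).2
      ⟨pointHom.rangeRestrict_surjective, by
        rw [card_eight, range_pointHom, projMove_spec.2.2]⟩
  exact MonoidHom.rangeRestrict_injective_iff.1 hb.injective

/-- The subgroup is the projective orthogonal group. -/
noncomputable def orthEquiv : letSub φ lettersEight ≃*
    Cfsg.POmega (ZMod 3) (Cfsg.quadFormOdd 3 (ZMod 3)) :=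
  ((MonoidHom.ofInjective pointHom_injective).trans (MulEquiv.subgroupCongr range_pointHom)).trans
    pOmegaEquiv.symm

end Cfsg.Agent.Lib.SporPres.FiTwentyTwo.Orth
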