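import Cfsg.Agent.Lib.SporPres.FiTwentyTwo.S16Tab

/-! # Generated coset enumeration data: S16 -/

set_option autoImplicit false

namespace Cfsg.Agent.Lib.SporPres.FiTwentyTwo.S16

open Cfsg.Agent.Lib.Coset

/-- Packed derivations. -/
def proofsB0 : List ℕ := [
  0,
  0,
  0,
  0,
  0,
  0,
  0,
  0,
  0,
  0,
  0,
  0,
  0,
  0,
  0,
  0xb0000c0000d0040002c00012,
  0x90000a0000c0040002400016,
  0x700008000090040001c0000e,
  0x300004000050040000c00002,
  0x800006000130080001400004,
  0x1,
  0x3,
  0x5,
  0x7,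
  0x100001000180080000000014,
  0x20000200019008000040000e,
  0x3000030001a0080000800006,
  0x40000600006000040001a00c0000800026,
  0x14000140001c0080001800002,
  0x120000b0000b000120001d00c000200001e,
  0xd0000e0000e0000d0001e00c0002c00020,
  0xf0000f0001f008000380000a,
  0x100001000170080000000010,
  0x20000400004000020002100c000040001e,
  0x60000600022008000100000c,
  0x130000700007000130002200c000100001a,
  0x900009000240080001c00004,
  0xa0000a000240080001c00008,
  0x1100011000260080002800004,
  0x1000010000270080003000000,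
  0xd0000d000280080003400008,
  0xe0000f0000f0000e0002800c0003400018,
  0x10000200002000010001600c0000000020,
  0x3000030002b008000080000a,
  0x4000040002b0080000800012,
  0x13000130002d008000100000a,
  0x6000060002d0080001000016,
  0x14000140002f008000180000a,
  0x120000c0000c000120003000c0002000022,
  0x110001100031008000300000c,
  0x100000e0000e000100003100c000300001c,
  0xf0000f000330080003800002,
  0x100001000150080000000008,
  0x20000300003000020003500c0000400018,
  0x50000700007000050003600c0000c0001c,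
  0xa0000a000370080001c00010,
  0x90000b0000b000090003700c0001c00024,
  0xd0000d000390080002c00014,
  0xe0000e0003a008000340000e,
  0xf0000f0003b0080003800006]

theorem proofsB0_ok : cert.blockOK 0 proofsB0 = true := by decide +kernel

theorem proofsB0_len : proofsB0.length = 60 := by decide +kernel

/-- Packed derivations. -/
def proofsE0 : List ℕ := [
  0x15,
  0x16,
  0x17,
  0x18,
  0x1,
  0x35,
  0x2,
  0x21,
  0x19,
  0x1,
  0x3,
  0x2,
  0x4,
  0x1a,
  0x2b,
  0x3,
  0x36,
  0x5,
  0x1b,
  0x2c,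
  0x13,
  0x22,
  0x4,
  0x6,
  0x2d,
  0x13,
  0x7,
  0x5,
  0x8,
  0x2e,
  0x14,
  0x23,
  0x1c,
  0x6,
  0x2f,
  0x24,
  0x7,
  0x37,
  0x9,
  0xa,
  0x14,
  0x12,
  0x1d,
  0x8,
  0x30,
  0x25,
  0x12,
  0xb,
  0x9,
  0xc,
  0x26,
  0x32,
  0x38,
  0x11,
  0xa,
  0x29,
  0x1e,
  0xb,
  0x39,
  0xd,
  0x27,
  0x31,
  0x10,
  0x11,
  0xc,
  0x28,
  0xe,
  0x10,
  0x3a,
  0xd,
  0xf,
  0xe,
  0x33,
  0x3b,
  0x1f,
  0xf,
  0x2a,
  0x34,
  0x3c,
  0x20]

theorem proofsE0_ok : cert.edgesOK tab ord 0 proofsE0 = true := by decide +kernel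

theorem proofsE0_len : proofsE0.length = 80 := by decide +kernel

end Cfsg.Agent.Lib.SporPres.FiTwentyTwo.S16
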