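import Cfsg.Agent.Lib.Coset.Cover

/-! # Generated coset enumeration data: S16 -/

set_option autoImplicit false

namespace Cfsg.Agent.Lib.SporPres.FiTwentyTwo.S16

open Cfsg.Agent.Lib.Coset

/-- The facts. -/
def factStore : Store :=
  .leaf 0x30000f0000f30000e0000e30000d0000d30000b0000b20000a0000a20000700007100003000030000010000120000f0000f20000e0000e10000a0000a10000c0000c40000800008400006000064000050000540000400004400003000034000020000210000f0000f00000b0000b00000d0000d00000c0000c00000a0000a000009000090000070000710000600006100004000042000010000140000f0000f40000e0000e10000b0000b20000800008200006000063000030000330000200002300001000013000000000020000000000100000000000000000000000000800006000004000051000080000930000a0000c20000c0000d00000f0000e10000e0000d40000d0000b40000c0000920000b0000940000a00007300009000073000080000510000700005300006000042000050000320000400002000003000021000020000140000100000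

/-- The defining facts. -/
def defStore : Store :=
  .leaf 0xe0000d0000c0000b0000a0000900008000070000600005000040000300002000010000000000

/-- The certificate. -/
def cert : Cert where
  gens := 5
  nfacts := 60
  rels := [[0,2,0,2],[2,0,2,0],[0,3,0,3],[3,0,3,0],[0,4,0,4],[4,0,4,0],[1,3,1,3],[3,1,3,1],[2,4,2,4],[4,2,4,2],[3,4,3,4],[4,3,4,3],[0,1,0,1,0,1],[1,0,1,0,1,0],[1,2,1,2,1,2],[2,1,2,1,2,1],[1,4,1,4,1,4],[4,1,4,1,4,1],[2,3,2,3,2,3],[3,2,3,2,3,2]]
  subs := [[0],[1],[2],[3]]
  facts := factStore
  defs := defStore

/-- The nodes of the cosets. -/
def ord : Store :=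
  .leaf 0xf0000e0000d0000c0000b0000a00009000080000700006000050000400003000020000100000

/-- The table. -/
def tab : Tab where
  size := 16
  gens := 5
  cols := [.leaf 0xe0000f0000d0000c0000b0000a00009000060000700008000040000500002000030000100000,
    .leaf 0xf0000d0000e0000c0000b0000a00008000090000500006000070000400003000010000200000,
    .leaf 0xf0000e0000c0000d000090000a0000b000080000700006000030000200005000040000100000,
    .leaf 0xf0000e0000d0000a0000b0000c00007000050000900004000080000600003000020000100000,
    .leaf 0xf0000e0000b000090000d000070000c000080000a00006000050000400003000020000000001]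

end Cfsg.Agent.Lib.SporPres.FiTwentyTwo.S16
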