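import Cfsg.Agent.Lib.Coset.Cover

/-! # Generated coset enumeration data: S27 -/

set_option autoImplicit false

namespace Cfsg.Agent.Lib.SporPres.FiTwentyTwo.S27

open Cfsg.Agent.Lib.Coset

/-- The facts. -/
def factStore : Store :=
  .node (.leaf 0x20000900009200007000073000040000430000300003300002000023000010000100001a0001a00001900019000018000181000160001640000e0000e40001200012400010000105000080000850000c0000c50000a0000a50000900009500007000075000060000650000500005500004000045000030000350000200002400000000003000000000020000000000100000000000000000000000000900007000005000061000090000a3000100000e30000b0000d2000120001020000d0000f10001200014000017000160000140001530001a00019200019000181000180001740001700015400016000145000150001350001400011000013000115000120000f1000110000f5000100000d40000f0000c50000e0000b40000d0000a20000c0000a40000b0000830000a00008300009000061000080000630000700005200006000042000050000300000400003100003000024000020000150000100000) (.leaf 0x3000130001320001a0001a3000180001830001700017300016000163000150001520000e0000e30001400014300012000123000110001130000f0000f30000c0000c20000b0000b2000080000810000400004000002000020000010000110000e0000e10001a0001a100019000192000170001720001600016200015000152000140001420001300013200011000111000100001010000b0000b10000d0000d4000090000940000700007400006000064000050000540000400004400003000031000010000100000c0000c40001a0001a4000190001940001800018100013000131000150001500000f0000f000012000120000100001000000e0000e00000d0000d00000b0000b00000a0000a000008000081000070000710000500005200002000022000010000150001a0001a50001900019500018000185000170001750001600016400013000134000110001110000c0000c)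

/-- The defining facts. -/
def defStore : Store :=
  .leaf 0x190001800017000160001500014000130001200011000100000f0000e0000d0000c0000b0000a0000900008000070000600005000040000300002000010000000000

/-- The certificate. -/
def cert : Cert where
  gens := 6
  nfacts := 126
  rels := [[0,2,0,2],[2,0,2,0],[0,3,0,3],[3,0,3,0],[0,4,0,4],[4,0,4,0],[0,5,0,5],[5,0,5,0],[1,3,1,3],[3,1,3,1],[1,5,1,5],[5,1,5,1],[2,4,2,4],[4,2,4,2],[2,5,2,5],[5,2,5,2],[3,4,3,4],[4,3,4,3],[3,5,3,5],[5,3,5,3],[0,1,0,1,0,1],[1,0,1,0,1,0],[1,2,1,2,1,2],[2,1,2,1,2,1],[1,4,1,4,1,4],[4,1,4,1,4,1],[2,3,2,3,2,3],[3,2,3,2,3,2],[4,5,4,5,4,5],[5,4,5,4,5,4]]
  subs := [[0],[1],[2],[3],[4]]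
  facts := factStore
  defs := defStore

/-- The nodes of the cosets. -/
def ord : Store :=
  .leaf 0x1a000190001800017000160001500014000130001200011000100000f0000e0000d0000c0000b0000a00009000080000700006000050000400003000020000100000

/-- The table. -/
def tab : Tab where
  size := 27
  gens := 6
  cols := [.leaf 0x1a000190001800016000170001400015000110001200013000100000f0000e0000d0000c0000b0000a00007000080000900005000060000300004000020000100000,
    .leaf 0x1a00019000170001800016000150001200013000140000f00010000110000e0000d0000c0000b000090000a000060000700008000050000400002000030000100000,
    .leaf 0x1a000180001900017000160001500014000130001000011000120000d0000e0000f0000a0000b0000c00009000080000700004000030000600005000020000100000,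
    .leaf 0x190001a00018000170001600015000140001300012000110000e0000f000100000b0000c0000d00008000060000a0000500009000070000400003000020000100000,
    .leaf 0x1a000190001800015000140001700016000130001200011000100000c0000e0000a0000f000080000d000090000b0000700006000050000400003000010000200000,
    .leaf 0x1a000190001800017000160001300011000150000f000140000d000120000b000100000c0000e0000a00009000080000700006000050000400003000020000000001]

end Cfsg.Agent.Lib.SporPres.FiTwentyTwo.S27
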