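import Cfsg.Agent.Lib.Coset.Cover

/-! # Generated coset enumeration data: S4 -/

set_option autoImplicit false

namespace Cfsg.Agent.Lib.SporPres.FiTwentyTwo.S4

open Cfsg.Agent.Lib.Coset

/-- The facts. -/
def factStore : Store :=
  .leaf 0x100003000030000010000120000300003200002000021000000000000000000000000003000021000020000120000100000

/-- The defining facts. -/
def defStore : Store :=
  .leaf 0x2000010000000000

/-- The certificate. -/
def cert : Cert where
  gens := 3
  nfacts := 9
  rels := [[0,2,0,2],[2,0,2,0],[0,1,0,1,0,1],[1,2,1,2,1,2]]
  subs := [[0],[1]]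
  facts := factStore
  defs := defStore

/-- The nodes of the cosets. -/
def ord : Store :=
  .leaf 0x3000020000100000

/-- The table. -/
def tab : Tab where
  size := 4
  gens := 3
  cols := [.leaf 0x2000030000100000,
    .leaf 0x3000010000200000,
    .leaf 0x3000020000000001]

end Cfsg.Agent.Lib.SporPres.FiTwentyTwo.S4
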