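import Cfsg.Agent.Lib.SporPres.FiTwentyTwo.S5Tab

/-! # Generated coset enumeration data: S5 -/

set_option autoImplicit false

namespace Cfsg.Agent.Lib.SporPres.FiTwentyTwo.S5

open Cfsg.Agent.Lib.Coset

/-- Packed derivations. -/
def proofsB0 : List ℕ := [
  0,
  0,
  0,
  0,
  0x1,
  0x3,
  0x5,
  0x10000200002000010000700c0000000010,
  0x30000300008008000080000a,
  0x400004000090080000c00006,
  0x100001000060080000000008,
  0x20000300003000020000b00c000040000e,
  0x4000040000c0080000c00002,
  0x100001000050080000000004,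
  0x2000020000e0080000400000,
  0x30000400004000030000f00c000080000c]

theorem proofsB0_ok : cert.blockOK 0 proofsB0 = true := by decide +kernel

theorem proofsB0_len : proofsB0.length = 16 := by decide +kernel

/-- Packed derivations. -/
def proofsE0 : List ℕ := [
  0x5,
  0x6,
  0x7,
  0x1,
  0xe,
  0xb,
  0x2,
  0x1,
  0xf,
  0x3,
  0x2,
  0x8,
  0x4,
  0x3,
  0xc,
  0x9,
  0x4,
  0x10,
  0xd,
  0xa]

theorem proofsE0_ok : cert.edgesOK tab ord 0 proofsE0 = true := by decide +kernel

theorem proofsE0_len : proofsE0.length = 20 := by decide +kernel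

end Cfsg.Agent.Lib.SporPres.FiTwentyTwo.S5
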