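import Cfsg.Agent.Lib.Coset.Cover

/-! # Generated coset enumeration data: S5 -/

set_option autoImplicit false

namespace Cfsg.Agent.Lib.SporPres.FiTwentyTwo.S5

open Cfsg.Agent.Lib.Coset

/-- The facts. -/
def factStore : Store :=
  .leaf 0x10000400004000002000020000010000120000400004200003000031000010000130000400004300003000033000020000220000000000100000000000000000000000000400003100003000022000020000130000100000

/-- The defining facts. -/
def defStore : Store :=
  .leaf 0x300002000010000000000

/-- The certificate. -/
def cert : Cert where
  gens := 4
  nfacts := 16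
  rels := [[0,2,0,2],[2,0,2,0],[0,3,0,3],[3,0,3,0],[1,3,1,3],[3,1,3,1],[0,1,0,1,0,1],[1,2,1,2,1,2],[2,3,2,3,2,3]]
  subs := [[0],[1],[2]]
  facts := factStore
  defs := defStore

/-- The nodes of the cosets. -/
def ord : Store :=
  .leaf 0x400003000020000100000

/-- The table. -/
def tab : Tab where
  size := 5
  gens := 4
  cols := [.leaf 0x300004000020000100000,
    .leaf 0x400002000030000100000,
    .leaf 0x400003000010000200000,
    .leaf 0x400003000020000000001]

end Cfsg.Agent.Lib.SporPres.FiTwentyTwo.S5
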