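import Cfsg.Agent.Lib.Coset.Cover

/-! # Generated coset enumeration data: S6 -/

set_option autoImplicit false

namespace Cfsg.Agent.Lib.SporPres.FiTwentyTwo.S6

open Cfsg.Agent.Lib.Coset

/-- The facts. -/
def factStore : Store :=
  .leaf 0x100004000050000050000300000400002100003000011000020000000000100000

/-- The defining facts. -/
def defStore : Store :=
  .leaf 0x40000300002000010000000000

/-- The certificate. -/
def cert : Cert where
  gens := 2
  nfacts := 6
  rels := [[0,1,0,1,0,1]]
  subs := []
  facts := factStore
  defs := defStore

/-- The nodes of the cosets. -/
def ord : Store :=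
  .leaf 0x50000400003000020000100000

/-- The table. -/
def tab : Tab where
  size := 6
  gens := 2
  cols := [.leaf 0x30000200005000040000000001,
    .leaf 0x40000500001000000000300002]

end Cfsg.Agent.Lib.SporPres.FiTwentyTwo.S6
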