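import Cfsg.Agent.Lib.SporPres.He.Four
import Cfsg.Agent.Lib.SporPres.FiTwentyTwo.UnitData
import Cfsg.Agent.Lib.Classical.Unitary

/-! # PSU(6, 2) on its 693 isotropic points -/

set_option autoImplicit false

namespace Cfsg.Agent.Lib.SporPres.FiTwentyTwo.Unit

open Cfsg.Agent.Lib.Coset Matrix
open Cfsg.Agent.Lib.SporPres.He (Four)

/-- The vectors. -/
abbrev Vec := Fin 6 → Four

/-- The code of a vector. -/
def enc (x : Vec) : ℕ :=
  (x 0).code + 4 * (x 1).code + 16 * (x 2).code + 64 * (x 3).code + 256 * (x 4).code +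
    1024 * (x 5).code

/-- The vector of a code. -/
def vecOf (k : ℕ) : Vec := fun i => Four.ofCode (k / 4 ^ (i : ℕ) % 4)

theorem code_lt (a : Four) : a.code < 4 := by cases a <;> decide

theorem ofCode_code (a : Four) : Four.ofCode a.code = a := by cases a <;> rfl

theorem enc_lt (x : Vec) : enc x < 4096 := by
  have := code_lt (x 0)
  have := code_lt (x 1)
  have := code_lt (x 2)
  have := code_lt (x 3)
  have := code_lt (x 4)
  have := code_lt (x 5)
  unfold enc
  omega

theorem vecOf_enc (x : Vec) : vecOf (enc x) = x := by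
  have := code_lt (x 0)
  have := code_lt (x 1)
  have := code_lt (x 2)
  have := code_lt (x 3)
  have := code_lt (x 4)
  have := code_lt (x 5)
  have h : ∀ i : Fin 6, enc x / 4 ^ (i : ℕ) % 4 = (x i).code := by
    intro i
    fin_cases i <;> simp [enc] <;> omega
  funext i
  rw [vecOf, h i, ofCode_code]

/-- The form. -/
abbrev herm (u v : Vec) : Four := Cfsg.hermForm 6 Four 2 u v

/-- The point of a vector. -/
noncomputable def pidx (x : Vec) : ℕ := nodeOf pidS (enc x)

/-- The factor of a vector. -/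
noncomputable def coef (x : Vec) : Four := Four.ofCode (nodeOf coefS (enc x))

/-- The vector of a point. -/
noncomputable def repV (i : ℕ) : Vec := vecOf (nodeOf repS i)

theorem table_chunk : ∀ c < 8, ∀ j : Fin 512, pidx (vecOf (c * 512 + j)) < 693 ∧
    (herm (vecOf (c * 512 + j)) (vecOf (c * 512 + j)) = 0 → vecOf (c * 512 + j) ≠ 0 →
      coef (vecOf (c * 512 + j)) ≠ 0 ∧
        vecOf (c * 512 + j) = coef (vecOf (c * 512 + j)) • repV (pidx (vecOf (c * 512 + j)))) := by
  intro c hc
  interval_cases c <;> decide +kernel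

theorem table_spec (x : Vec) : pidx x < 693 ∧ (herm x x = 0 → x ≠ 0 →
    coef x ≠ 0 ∧ x = coef x • repV (pidx x)) := by
  have hlt := enc_lt x
  have h := table_chunk (enc x / 512) (by omega) ⟨enc x % 512, by omega⟩
  rw [show enc x / 512 * 512 + ((⟨enc x % 512, by omega⟩ : Fin 512) : ℕ) = enc x from
    Nat.div_add_mod' _ _, vecOf_enc] at h
  exact h

theorem rep_spec : ∀ i : Fin 693, herm (repV i) (repV i) = 0 ∧ repV i ≠ 0 ∧
    ∀ c : Four, c ≠ 0 → pidx (c • repV i) = i := by decide +kernel

theorem pidx_smul {c : Four} (hc : c ≠ 0) {x : Vec} (h0 : herm x x = 0) (hx : x ≠ 0) :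
    pidx (c • x) = pidx x := by
  obtain ⟨hd, he⟩ := (table_spec x).2 h0 hx
  conv_lhs => rw [he, smul_smul]
  exact (rep_spec ⟨pidx x, (table_spec x).1⟩).2.2 _ (mul_ne_zero hc hd)

/-- The special unitary group. -/
abbrev SU6 := Cfsg.SU 6 Four 2

/-- The matrix of an element. -/
abbrev mat (A : SU6) : Matrix (Fin 6) (Fin 6) Four :=
  ((A : Matrix.SpecialLinearGroup (Fin 6) Four) : Matrix (Fin 6) (Fin 6) Four)

theorem mat_mul (A B : SU6) : mat (A * B) = mat A * mat B := rfl

theorem mat_herm (A : SU6) (x : Vec) : herm (mat A *ᵥ x) (mat A *ᵥ x) = herm x x :=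
  Cfsg.Agent.Lib.Classical.Herm.mem_SU.1 A.2 x x

theorem mulVec_ne_zero (A : SU6) {x : Vec} (hx : x ≠ 0) : mat A *ᵥ x ≠ 0 := fun h => hx (by
  have h1 := congrArg (mat A⁻¹ *ᵥ ·) h
  simp only [mulVec_mulVec, mulVec_zero] at h1
  rwa [← mat_mul, inv_mul_cancel, show mat (1 : SU6) = 1 from rfl, one_mulVec] at h1)

/-- The action on the points. -/
noncomputable def moveFn (A : SU6) (i : Fin 693) : Fin 693 :=
  ⟨pidx (mat A *ᵥ repV i), (table_spec _).1⟩

theorem image_decomp (A : SU6) (i : Fin 693) :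
    coef (mat A *ᵥ repV i) ≠ 0 ∧
      mat A *ᵥ repV i = coef (mat A *ᵥ repV i) • repV (pidx (mat A *ᵥ repV i)) :=
  (table_spec _).2 ((mat_herm A _).trans (rep_spec i).1) (mulVec_ne_zero A (rep_spec i).2.1)

theorem moveFn_mul (A B : SU6) (i : Fin 693) : moveFn A (moveFn B i) = moveFn (A * B) i := by
  refine Fin.ext ?_
  show pidx (mat A *ᵥ repV (pidx (mat B *ᵥ repV i))) = pidx (mat (A * B) *ᵥ repV i)
  obtain ⟨hc, hd⟩ := image_decomp B i
  set j : Fin 693 := ⟨pidx (mat B *ᵥ repV i), (table_spec _).1⟩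
  rw [mat_mul, ← mulVec_mulVec]
  conv_rhs => rw [hd, mulVec_smul, pidx_smul hc ((mat_herm A _).trans (rep_spec j).1)
    (mulVec_ne_zero A (rep_spec j).2.1)]

theorem moveFn_one (i : Fin 693) : moveFn 1 i = i := Fin.ext (by
  show pidx (mat (1 : SU6) *ᵥ repV i) = i
  rw [show mat (1 : SU6) = 1 from rfl, one_mulVec]
  simpa using (rep_spec i).2.2 1 one_ne_zero)

/-- The permutations of the points. -/
noncomputable def move : SU6 →* Equiv.Perm (Fin 693) where
  toFun A := ⟨moveFn A, moveFn A⁻¹, fun i => by rw [moveFn_mul, inv_mul_cancel, moveFn_one],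
    fun i => by rw [moveFn_mul, mul_inv_cancel, moveFn_one]⟩
  map_one' := Equiv.ext moveFn_one
  map_mul' A B := Equiv.ext fun i => (moveFn_mul A B i).symm

theorem card_four : Fintype.card Four = 2 ^ 2 := He.Four.card_four

theorem one_add_one : (1 : Four) + 1 = 0 := by decide +kernel

/-- The vector with ones in two places. -/
def pairVec (j k : Fin 6) (c : Four) : Vec := Pi.single j 1 + Pi.single k c

theorem pair_spec : ∀ j k : Fin 6, j ≠ k → ∀ c : Four, c ≠ 0 →
    herm (pairVec j k c) (pairVec j k c) = 0 ∧ pairVec j k c ≠ 0 := by decide +kernel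

theorem ker_move : move.ker = Subgroup.center SU6 := by
  refine le_antisymm (fun A hA => ?_) (fun A hA => ?_)
  · have hfix : ∀ x : Vec, herm x x = 0 → x ≠ 0 → ∃ d : Four, mat A *ᵥ x = d • x := by
      intro x h0 hx
      obtain ⟨hc, hd⟩ := (table_spec x).2 h0 hx
      set i : Fin 693 := ⟨pidx x, (table_spec x).1⟩ with hi
      have h1 : pidx (mat A *ᵥ repV i) = pidx x :=
        congrArg Fin.val (show moveFn A i = i from congrArg (fun σ : Equiv.Perm (Fin 693) => σ i) hA)
      obtain ⟨-, hd'⟩ := image_decomp A i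
      rw [h1] at hd'
      refine ⟨coef (mat A *ᵥ repV i), ?_⟩
      conv_lhs => rw [hd, mulVec_smul, show repV (pidx x) = repV i from rfl, hd', smul_comm, ← hd]
    have hrow : ∀ j k : Fin 6, j ≠ k → ∀ c : Four, c ≠ 0 → ∃ d : Four,
        ∀ r, mat A r j + mat A r k * c = d * pairVec j k c r := by
      intro j k hjk c hc
      obtain ⟨d, hd⟩ := hfix _ (pair_spec j k hjk c hc).1 (pair_spec j k hjk c hc).2
      refine ⟨d, fun r => ?_⟩
      have := congrFun hd r
      simpa [pairVec, mulVec_add, mulVec_single, Pi.smul_apply, mul_comm] using this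
    have hoff : ∀ r k : Fin 6, r ≠ k → mat A r k = 0 := by
      intro r k hrk
      obtain ⟨j, hjr, hjk⟩ : ∃ j : Fin 6, j ≠ r ∧ j ≠ k :=
        (by decide +kernel : ∀ r k : Fin 6, ∃ j, j ≠ r ∧ j ≠ k) r k
      obtain ⟨d, hd⟩ := hrow j k hjk 1 one_ne_zero
      obtain ⟨e, he⟩ := hrow j k hjk Four.zw (by decide)
      have h1 := hd r
      have h2 := he r
      have hz : ∀ c, pairVec j k c r = 0 := fun c => by simp [pairVec, hjr.symm, hrk]
      rw [hz, mul_zero, mul_one] at h1
      rw [hz, mul_zero] at h2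
      exact (by decide +kernel : ∀ a b : Four, a + b = 0 → a + b * Four.zw = 0 → b = 0) _ _ h1 h2
    have hdiag : ∀ j k : Fin 6, mat A j j = mat A k k := by
      intro j k
      rcases eq_or_ne j k with rfl | hjk
      · rfl
      obtain ⟨d, hd⟩ := hrow j k hjk 1 one_ne_zero
      have h1 := hd j
      have h2 := hd k
      simp [pairVec, hoff j k hjk, hjk] at h1
      simp [pairVec, hoff k j hjk.symm, hjk.symm] at h2
      exact h1.trans h2.symm
    refine Subgroup.mem_center_iff.2 fun B => Subtype.ext (Subtype.ext ?_)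
    have hA : mat A = mat A 0 0 • 1 := by
      ext r k
      by_cases h : r = k
      · subst h; simpa using hdiag r 0
      · simp [h, hoff r k h]
    show mat B * mat A = mat A * mat B
    rw [hA, mul_smul_comm, smul_mul_assoc, mul_one, one_mul]
  · obtain ⟨a, ha⟩ := Cfsg.Agent.Lib.Classical.Herm.scalar_of_mem_center_SU card_four (by norm_num) hA
    refine Equiv.ext fun i => Fin.ext ?_
    show pidx (mat A *ᵥ repV i) = i
    rw [show mat A = a • 1 from ha, smul_mulVec, one_mulVec]
    refine (rep_spec i).2.2 a fun h0 => ?_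
    have := mulVec_ne_zero A (rep_spec i).2.1
    rw [show mat A = a • 1 from ha, h0, zero_smul, zero_mulVec] at this
    exact this rfl

theorem card_PSU6 : Nat.card (Cfsg.PSU 6 Four 2) = 9196830720 := by
  have h := Cfsg.Agent.Lib.Classical.Herm.card_PSU card_four (n := 6) (by norm_num)
  have hv : (2 : ℕ) ^ (6 * (6 - 1) / 2) *
      ∏ i ∈ Finset.range 6, (if Even i then 2 ^ (i + 1) + 1 else 2 ^ (i + 1) - 1) = 9 * 9196830720 := by
    decide +kernel
  rw [Cfsg.Agent.Lib.Classical.Herm.card_GU card_four, hv,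
    show Nat.gcd 6 (2 + 1) = 3 from rfl, ← mul_assoc] at h
  exact Nat.eq_of_mul_eq_mul_left (by norm_num : 0 < 9) h

/-- The projective group is the group of permutations. -/
noncomputable def psuEquiv : Cfsg.PSU 6 Four 2 ≃* move.range :=
  (QuotientGroup.quotientMulEquivOfEq ker_move.symm).trans (QuotientGroup.quotientKerEquivRange move)

/-- The transvection matrices. -/
def tvMat (g : ℕ) : Matrix (Fin 6) (Fin 6) Four :=
  Matrix.of fun i j => (if i = j then 1 else 0) + Four.ofCode ((centres.getD g []).getD i 0) *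
    (Four.ofCode ((centres.getD g []).getD j 0)) ^ 2

/-- Squaring. -/
def frob : Four →+* Four where
  toFun x := x ^ 2
  map_one' := one_pow 2
  map_mul' x y := mul_pow x y 2
  map_zero' := zero_pow two_ne_zero
  map_add' := (by decide +kernel : ∀ x y : Four, (x + y) ^ 2 = x ^ 2 + y ^ 2)

theorem tv_unit : ∀ g : Fin 8, (tvMat g)ᵀ * (tvMat g).map frob = 1 ∧ tvMat g * tvMat g = 1 := by
  decide +kernel

theorem tv_mem (g : Fin 8) : ∀ u v, herm (tvMat g *ᵥ u) (tvMat g *ᵥ v) = herm u v := by
  intro u v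
  have hherm : ∀ a b : Vec, herm a b = a ⬝ᵥ (frob ∘ b) := fun a b => rfl
  rw [hherm, hherm, show frob ∘ (tvMat g *ᵥ v) = (tvMat g).map frob *ᵥ (frob ∘ v) from
    funext (RingHom.map_mulVec frob _ v), dotProduct_mulVec, ← vecMul_transpose, vecMul_vecMul,
    (tv_unit g).1, vecMul_one]

theorem tv_det (g : Fin 8) : (tvMat g).det = 1 := by
  have h := congrArg Matrix.det (tv_unit g).2
  rw [det_mul, det_one] at h
  exact (by decide +kernel : ∀ d : Four, d * d = 1 → d = 1) _ h

/-- The transvections. -/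
def tv (g : Fin 8) : SU6 :=
  ⟨⟨tvMat g, tv_det g⟩, Cfsg.Agent.Lib.Classical.Herm.mem_SU.2 (tv_mem g)⟩

theorem tv_act : ∀ g : Fin 8, ∀ i : Fin 693, pidx (tvMat g *ᵥ repV i) = tabU.act g i := by
  decide +kernel

theorem goodU : tabU.Good :=
  Tab.good_of_invOK (B := 693) (fun k hk => by
    have : k = 0 := by
      have : tabU.size = 693 := rfl
      omega
    subst this
    decide +kernel) (by norm_num)

theorem perm_mem_move (g : ℕ) (hg : g < 8) : tabU.perm goodU g ∈ move.range :=
  ⟨tv ⟨g, hg⟩, Equiv.ext fun i => Fin.ext (by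
    rw [Tab.perm, dif_pos (show g < tabU.gens from hg)]
    exact tv_act ⟨g, hg⟩ i)⟩

/-- The group generated by the transvections on the points. -/
abbrev tvGroup : Subgroup (Equiv.Perm (Fin 693)) :=
  Subgroup.closure (tabU.perm goodU '' Set.Iio 8)

theorem move_range : move.range = tvGroup ∧ Nat.card move.range = 9196830720 := by
  have hle : tvGroup ≤ move.range :=
    (Subgroup.closure_le _).2 (by rintro _ ⟨g, hg, rfl⟩; exact perm_mem_move g hg)
  have hcard : Nat.card move.range = 9196830720 :=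
    (Nat.card_congr psuEquiv.toEquiv).symm.trans card_PSU6
  refine ⟨(Subgroup.eq_of_le_of_card_ge hle ?_).symm, hcard⟩
  have h : Tab.chainCard chainU = 9196830720 := by decide +kernel
  refine (hcard.trans h.symm).le.trans ?_
  refine tabU.chain_spec goodU (by decide +kernel) fun l hl w hw => ?_
  have hl' : (chainU.all fun l => lettersBelow 8 l.2.1) = true := by decide +kernel
  exact mem_closure_letters (List.all_eq_true.1 hl' l hl) w hw

end Cfsg.Agent.Lib.SporPres.FiTwentyTwo.Unit
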