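import Cfsg.Prelude.Def_SporadicB
import Cfsg.Agent.Lib.SporPres.FiTwentyTwo.UnitSpace
import Cfsg.Agent.Lib.SporPres.FiTwentyTwo.Order

/-! # The subgroup of index 3510 is a double cover of PSU(6, 2) -/

set_option autoImplicit false

namespace Cfsg.Agent.Lib.SporPres.FiTwentyTwo.Unit

open Cfsg.Agent.Lib.Coset

theorem act_ev (w : List ℕ) (hw : w.all (· < tab.gens) = true) :
    act (ev φ w) = ev (tab.perm good) w := by
  simp only [List.all_eq_true, decide_eq_true_eq] at hw
  rw [ev_comp, ev, ev, List.map_congr_left (f := ⇑act ∘ φ) (g := tab.perm good) fun a ha =>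
    act_φ a (hw a ha)]

theorem pts_spec : ∀ i : Fin 693, nodeOf ptsS i < 3510 ∧ nodeOf posS (nodeOf ptsS i) = i := by
  decide +kernel

/-- The table point of an isotropic point. -/
noncomputable def pt (i : Fin 693) : Fin tab.size := ⟨nodeOf ptsS i, (pts_spec i).1⟩

theorem pt_inj : Function.Injective pt := fun i j h => Fin.ext (by
  rw [← (pts_spec i).2, ← (pts_spec j).2]
  exact congrArg (fun q : Fin tab.size => nodeOf posS q) h)

/-- A permutation of the cosets induces one of the isotropic points. -/
def Compat (g : Equiv.Perm (Fin tab.size)) (σ : Equiv.Perm (Fin 693)) : Prop :=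
  ∀ i, g (pt i) = pt (σ i)

theorem compat_mul {g h : Equiv.Perm (Fin tab.size)} {σ τ : Equiv.Perm (Fin 693)}
    (hg : Compat g σ) (hh : Compat h τ) : Compat (g * h) (σ * τ) := fun i => by
  rw [Equiv.Perm.mul_apply, hh, hg, Equiv.Perm.mul_apply]

theorem compat_unique {g : Equiv.Perm (Fin tab.size)} {σ τ : Equiv.Perm (Fin 693)}
    (hs : Compat g σ) (ht : Compat g τ) : σ = τ :=
  Equiv.ext fun i => pt_inj ((hs i).symm.trans (ht i))

theorem col_mem : ∀ g < 8, (colWords.getD g []) ∈ subWords := by decide +kernel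

theorem sub_cases : ∀ w ∈ subWords, w = [0] ∨ ∃ g < 8, w = colWords.getD g [] := by decide +kernel

theorem col_moves : ∀ g : Fin 8, ∀ i : Fin 693,
    tab.app (colWords.getD g []) (nodeOf ptsS i) = nodeOf ptsS (tabU.act g i) := by decide +kernel

theorem zero_fix : ∀ i : Fin 693, tab.app [0] (nodeOf ptsS i) = nodeOf ptsS i := by decide +kernel

theorem col_letters : ∀ g < 8, (colWords.getD g []).all (· < tab.gens) = true := by decide +kernel

theorem compat_col (g : ℕ) (hg : g < 8) :
    Compat (act (ev φ (colWords.getD g []))) (tabU.perm goodU g) := fun i => Fin.ext (by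
  rw [act_ev _ (col_letters g hg)]
  refine (Tab.ev_perm_apply good _ (by simpa using col_letters g hg) _).trans ?_
  rw [Tab.perm, dif_pos (show g < tabU.gens from hg)]
  exact col_moves ⟨g, hg⟩ i)

theorem compat_zero : Compat (act (ev φ [0])) 1 := fun i => Fin.ext (by
  rw [act_ev _ (by decide +kernel)]
  exact (Tab.ev_perm_apply good _ (by decide +kernel) _).trans (zero_fix i))

theorem exists_compat {x : Cfsg.Spor.Fi22} (hx : x ∈ subK) :
    ∃ σ ∈ tvGroup, Compat (act x) σ := by
  have := group_le.1
  rw [subK, wordSub, ← Subgroup.mem_toSubmonoid, Subgroup.closure_toSubmonoid_of_finite] at hx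
  induction hx using Submonoid.closure_induction with
  | mem x hx =>
    obtain ⟨w, hw, rfl⟩ := hx
    rcases sub_cases w hw with rfl | ⟨g, hg, rfl⟩
    · exact ⟨1, one_mem _, compat_zero⟩
    · exact ⟨_, Subgroup.subset_closure ⟨g, hg, rfl⟩, compat_col g hg⟩
  | one => exact ⟨1, one_mem _, fun i => by rw [map_one]; rfl⟩
  | mul x y _ _ hx hy =>
    obtain ⟨σ, hσm, hσ⟩ := hx
    obtain ⟨τ, hτm, hτ⟩ := hy
    exact ⟨σ * τ, mul_mem hσm hτm, by rw [map_mul]; exact compat_mul hσ hτ⟩

/-- The action of the subgroup on the isotropic points. -/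
noncomputable def pointHom : subK →* Equiv.Perm (Fin 693) :=
  MonoidHom.mk' (fun x => (exists_compat x.2).choose) fun x y =>
    compat_unique (exists_compat (x * y).2).choose_spec.2 (by
      rw [Subgroup.coe_mul, map_mul]
      exact compat_mul (exists_compat x.2).choose_spec.2 (exists_compat y.2).choose_spec.2)

theorem pointHom_eq (x : subK) {σ : Equiv.Perm (Fin 693)}
    (h : Compat (act (x : Cfsg.Spor.Fi22)) σ) : pointHom x = σ :=
  compat_unique (exists_compat x.2).choose_spec.2 h

theorem range_pointHom : pointHom.range = tvGroup := by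
  refine le_antisymm ?_ ((Subgroup.closure_le _).2 ?_)
  · rintro _ ⟨x, rfl⟩
    exact (exists_compat x.2).choose_spec.1
  · rintro _ ⟨g, hg, rfl⟩
    exact ⟨⟨_, Subgroup.subset_closure ⟨_, col_mem g hg, rfl⟩⟩, pointHom_eq _ (compat_col g hg)⟩

/-- The central involution. -/
def invol : subK := ⟨ev φ [0], Subgroup.subset_closure ⟨[0], by decide +kernel, rfl⟩⟩

theorem invol_ne_one : invol ≠ 1 := fun h => by
  have h1 : act (ev φ [0]) = 1 := by
    rw [show ev φ [0] = ((invol : subK) : Cfsg.Spor.Fi22) from rfl, h, Subgroup.coe_one, map_one]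
  rw [act_ev _ (by decide +kernel)] at h1
  have h2 := congrArg (fun σ : Equiv.Perm (Fin tab.size) => ((σ ⟨1, by decide +kernel⟩ : Fin _) : ℕ)) h1
  rw [Tab.ev_perm_apply good _ (by decide +kernel)] at h2
  exact absurd h2 (by decide +kernel)

theorem invol_mem_ker : invol ∈ pointHom.ker := pointHom_eq invol compat_zero

theorem card_ker : Nat.card pointHom.ker = 2 := by
  have h := pointHom.ker.card_mul_index
  rw [Subgroup.index_ker, range_pointHom, ← move_range.1, move_range.2, card_subK] at h
  exact Nat.eq_of_mul_eq_mul_right (by norm_num : 0 < 9196830720)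
    (h.trans (by norm_num : 18393661440 = 2 * 9196830720))

theorem stab_moves : (List.range 693).all (fun x => x == 0 ||
    chainU1.2.1.any fun w => !(tabU.app w x == x)) = true := by decide +kernel

theorem stab_fixes : (chainU1.2.1.all fun w => tabU.app w 0 == 0 && w.all (· < 8)) = true := by
  decide +kernel

theorem exists_of_orbit_full {P : Tab} (h : P.Good) {K : Subgroup (Equiv.Perm (Fin P.size))}
    {ws : List (List ℕ)} {b : ℕ} {ss : List Tab.Step} (hok : P.orbitOK ws b ss = true)
    (hK : ∀ w ∈ ws, ev (P.perm h) w ∈ K) (hlen : ss.length + 1 = P.size) (hb : b < P.size)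
    (x : Fin P.size) : ∃ g ∈ K, g ⟨b, hb⟩ = x := by
  obtain ⟨O, hO, horb, -⟩ := Tab.orbit_spec h hok hK hb
  have huniv : O = Finset.univ := Finset.eq_univ_of_card _ (by rw [hO, hlen, Fintype.card_fin])
  obtain ⟨g, hg⟩ := horb x (huniv ▸ Finset.mem_univ x)
  exact ⟨g, g.2, hg⟩

theorem center_tvGroup (z : tvGroup) (hz : z ∈ Subgroup.center tvGroup) : z = 1 := by
  have hcomm : ∀ g ∈ tvGroup, ∀ i : Fin 693, (z : Equiv.Perm (Fin 693)) (g i) =
      g ((z : Equiv.Perm (Fin 693)) i) := fun g hg i => by
    have := congrArg (fun q : tvGroup => (q : Equiv.Perm (Fin 693)) i)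
      (Subgroup.mem_center_iff.1 hz ⟨g, hg⟩)
    exact this.symm
  have h0 : (z : Equiv.Perm (Fin 693)) 0 = 0 := by
    by_contra hne
    have h := List.all_eq_true.1 stab_moves _ (List.mem_range.2 ((z : Equiv.Perm (Fin 693)) 0).2)
    simp only [Bool.or_eq_true, beq_iff_eq, List.any_eq_true, Bool.not_eq_true', beq_eq_false_iff_ne]
      at h
    obtain ⟨w, hw, hmove⟩ := h.resolve_left fun h' => hne (Fin.ext h')
    have hfix := List.all_eq_true.1 stab_fixes w hw
    simp only [Bool.and_eq_true, beq_iff_eq, List.all_eq_true, decide_eq_true_eq] at hfix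
    have hmem : ev (tabU.perm goodU) w ∈ tvGroup :=
      ev_mem_closure _ fun a ha => Subgroup.subset_closure ⟨a, hfix.2 a ha, rfl⟩
    have hw0 : ev (tabU.perm goodU) w (⟨0, by decide +kernel⟩ : Fin tabU.size) =
        ⟨0, by decide +kernel⟩ :=
      Fin.ext ((Tab.ev_perm_apply goodU w hfix.2 _).trans hfix.1)
    have h3 : ev (tabU.perm goodU) w ((z : Equiv.Perm (Fin 693)) 0) =
        (z : Equiv.Perm (Fin 693)) 0 :=
      (hcomm _ hmem 0).symm.trans (congrArg (⇑(z : Equiv.Perm (Fin 693))) hw0)
    exact hmove ((Tab.ev_perm_apply goodU w hfix.2 _).symm.trans (congrArg Fin.val h3))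
  refine Subtype.ext (Equiv.ext fun i => ?_)
  obtain ⟨g, hg, hgi⟩ := exists_of_orbit_full goodU (K := tvGroup) (ws := chainU0.2.1)
    (b := chainU0.1) (ss := chainU0.2.2) (by decide +kernel) (fun w hw => by
      have hl : lettersBelow 8 chainU0.2.1 = true := by decide +kernel
      exact mem_closure_letters hl w hw) (by decide +kernel) (by decide +kernel) i
  have hgi' : g (0 : Fin 693) = i := hgi
  show (z : Equiv.Perm (Fin 693)) i = i
  exact ((congrArg (⇑(z : Equiv.Perm (Fin 693))) hgi'.symm).trans
    ((hcomm g hg 0).trans (congrArg (⇑g) h0))).trans hgi'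

theorem center_eq : Subgroup.center subK = pointHom.ker := by
  refine le_antisymm (fun z hz => ?_) (fun z hz => ?_)
  · have hm : ∀ x, pointHom x ∈ tvGroup := fun x => range_pointHom ▸ ⟨x, rfl⟩
    have h1 : (⟨pointHom z, hm z⟩ : tvGroup) = 1 := center_tvGroup _ (Subgroup.mem_center_iff.2 (by
      rintro ⟨g, hg⟩
      rw [← range_pointHom] at hg
      obtain ⟨x, rfl⟩ := hg
      refine Subtype.ext ?_
      show pointHom x * pointHom z = pointHom z * pointHom x
      rw [← map_mul, ← map_mul, Subgroup.mem_center_iff.1 hz x]))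
    exact congrArg Subtype.val h1
  · refine Subgroup.mem_center_iff.2 fun g => ?_
    have := group_le.1
    have hzg : g * z * g⁻¹ ∈ pointHom.ker := (pointHom.normal_ker).conj_mem z hz g
    obtain ⟨u, -, hu⟩ := Nat.card_eq_two_iff' (1 : pointHom.ker) |>.1 card_ker
    rcases eq_or_ne z 1 with rfl | hz1
    · simp
    · have e1 : (⟨z, hz⟩ : pointHom.ker) = u := hu _ fun h => hz1 (congrArg Subtype.val h)
      have e2 : (⟨g * z * g⁻¹, hzg⟩ : pointHom.ker) = u := hu _ fun h => hz1 (by
        simpa using congrArg Subtype.val h)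
      have := congrArg Subtype.val (e2.trans e1.symm)
      simpa using mul_inv_eq_iff_eq_mul.1 this

theorem evenWord_fix : ∀ i < tab.size,
    ∀ w ∈ [(evenWord.flatMap fun g => colWords.getD g []) ++ [0]], tab.app w i = i :=
  Tab.relOK_spec (B := 600) (by norm_num) fun k hk => by
    have hk' : k < 6 := by have := size_eq; omega
    interval_cases k <;> decide +kernel

/-- Pairs of columns whose product has order three, linking all columns. -/
def links : List (ℕ × ℕ) := [(0, 1), (1, 2), (2, 3), (3, 4), (1, 5), (5, 6), (6, 7)]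

theorem links_fix : ∀ i < tab.size,
    ∀ w ∈ links.map (fun p => Coset.rep 3 (colWords.getD p.1 [] ++ colWords.getD p.2 [])),
      tab.app w i = i :=
  Tab.relOK_spec (B := 700) (by norm_num) fun k hk => by
    have hk' : k < 6 := by have := size_eq; omega
    interval_cases k <;> decide +kernel

theorem no_complement (L : Subgroup subK) : ¬ (Subgroup.center subK).IsComplement' L := by
  intro hL
  have hidx : L.index = 2 := by
    rw [hL.index_eq_card, center_eq, card_ker]
  have := Subgroup.normal_of_index_eq_two hidx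
  let q := QuotientGroup.mk' L
  have hq2 : Nat.card (subK ⧸ L) = 2 := hidx
  have hsq : ∀ y : subK ⧸ L, y * y = 1 := fun y => by
    rw [← pow_two, ← hq2]
    exact pow_card_eq_one'
  let x : ℕ → subK := fun g =>
    if h : g < 8 then ⟨_, Subgroup.subset_closure ⟨_, col_mem g h, rfl⟩⟩ else 1
  have hxv : ∀ g < 8, ((x g : subK) : Cfsg.Spor.Fi22) = ev φ (colWords.getD g []) := fun g hg => by
    simp only [x, dif_pos hg]
  have hlink : ∀ p ∈ links, q (x p.1) = q (x p.2) := by
    intro p hp
    have hlt : p.1 < 8 ∧ p.2 < 8 :=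
      (by decide +kernel : ∀ p ∈ links, p.1 < 8 ∧ p.2 < 8) p hp
    have h1 : ev φ (Coset.rep 3 (colWords.getD p.1 [] ++ colWords.getD p.2 [])) = 1 :=
      ev_eq_one_of_fix act_φ card_and_inj.2
        (by
          intro a ha
          have := (by decide +kernel : (links.all fun p =>
            (Coset.rep 3 (colWords.getD p.1 [] ++ colWords.getD p.2 [])).all (· < tab.gens)) = true)
          simp only [List.all_eq_true, decide_eq_true_eq] at this
          exact this p hp a ha)
        fun i hi => links_fix i hi _ (List.mem_map.2 ⟨p, hp, rfl⟩)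
    rw [ev_rep, ev_append, ← hxv _ hlt.1, ← hxv _ hlt.2, ← Subgroup.coe_mul,
      ← SubgroupClass.coe_pow, OneMemClass.coe_eq_one] at h1
    have h2 := congrArg q h1
    rw [map_pow, map_mul, map_one, pow_succ, pow_two, hsq, one_mul] at h2
    exact (mul_eq_one_iff_eq_inv.1 h2).trans (inv_eq_of_mul_eq_one_right (hsq _))
  have hall : ∀ g < 8, q (x g) = q (x 0) := by
    have e01 := hlink (0, 1) (by simp [links])
    have e12 := hlink (1, 2) (by simp [links])
    have e23 := hlink (2, 3) (by simp [links])
    have e34 := hlink (3, 4) (by simp [links])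
    have e15 := hlink (1, 5) (by simp [links])
    have e56 := hlink (5, 6) (by simp [links])
    have e67 := hlink (6, 7) (by simp [links])
    intro g hg
    interval_cases g
    exacts [rfl, e01.symm, (e01.trans e12).symm, ((e01.trans e12).trans e23).symm,
      (((e01.trans e12).trans e23).trans e34).symm, (e01.trans e15).symm,
      ((e01.trans e15).trans e56).symm, (((e01.trans e15).trans e56).trans e67).symm]
  have hprod : ∀ ws : List ℕ, (∀ g ∈ ws, g < 8) →
      ((ws.map x).prod : Cfsg.Spor.Fi22) = ev φ (ws.flatMap fun g => colWords.getD g []) ∧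
        q (ws.map x).prod = q (x 0) ^ ws.length := by
    intro ws
    induction ws with
    | nil => exact fun _ => ⟨rfl, by simp⟩
    | cons g ws ih =>
      intro h
      obtain ⟨i1, i2⟩ := ih fun a ha => h a (List.mem_cons_of_mem _ ha)
      have hg := h g (by simp)
      refine ⟨?_, ?_⟩
      · rw [List.map_cons, List.prod_cons, Subgroup.coe_mul, i1, hxv g hg, List.flatMap_cons,
          ev_append]
      · rw [List.map_cons, List.prod_cons, map_mul, i2, hall g hg, List.length_cons, pow_succ']
  obtain ⟨hp1, hp2⟩ := hprod evenWord (by decide +kernel)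
  have ha : (evenWord.map x).prod = invol := Subtype.ext (by
    rw [hp1]
    have h1 : ev φ ((evenWord.flatMap fun g => colWords.getD g []) ++ [0]) = 1 :=
      ev_eq_one_of_fix act_φ card_and_inj.2
        (by
          intro a ha
          have := (by decide +kernel : (((evenWord.flatMap fun g => colWords.getD g []) ++ [0]).all
            (· < tab.gens)) = true)
          simp only [List.all_eq_true, decide_eq_true_eq] at this
          exact this a ha)
        fun i hi => evenWord_fix i hi _ (by simp)
    rw [ev_append] at h1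
    refine (mul_eq_one_iff_eq_inv.1 h1).trans (inv_eq_of_mul_eq_one_right ?_)
    rw [ev_cons, ev_nil, mul_one]
    exact pres.φ_inv 0)
  obtain ⟨k, hk⟩ : Even evenWord.length := by decide +kernel
  rw [ha, hk, ← two_mul, pow_mul, pow_two, hsq, one_pow] at hp2
  have hmem : invol ∈ L := (QuotientGroup.eq_one_iff _).1 hp2
  have hz : invol ∈ Subgroup.center subK := center_eq ▸ invol_mem_ker
  exact invol_ne_one (Subgroup.mem_bot.1 (hL.isCompl.inf_eq_bot ▸ Subgroup.mem_inf.2 ⟨hz, hmem⟩))

theorem isDoubleCover : Cfsg.IsNonsplitDoubleCover subK (Cfsg.PSU 6 He.Four 2) := by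
  refine ⟨by rw [center_eq]; exact card_ker, ⟨?_⟩, no_complement⟩
  exact (QuotientGroup.quotientMulEquivOfEq center_eq).trans
    ((QuotientGroup.quotientKerEquivRange pointHom).trans
      ((MulEquiv.subgroupCongr (range_pointHom.trans move_range.1.symm)).trans psuEquiv.symm))

theorem exists_field : ∃ (K : Type) (_ : Field K) (_ : Fintype K),
    Fintype.card K = 4 ∧ Cfsg.IsNonsplitDoubleCover subK (Cfsg.PSU 6 K 2) :=
  ⟨He.Four, inferInstance, inferInstance, He.Four.card_four, isDoubleCover⟩

end Cfsg.Agent.Lib.SporPres.FiTwentyTwo.Unit
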